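import Cfsg.Agent.Spor.ThV.D0

set_option autoImplicit false
set_option maxRecDepth 100000000
set_option Elab.async false

namespace Cfsg.Agent.Spor.ThV

theorem sq : PA.sq A = true := by decide +kernel

theorem TTok : PA.gensOk A TT 8 = true := by decide +kernel

theorem r1 : PA.isW A TT [0, 0] A.one = true := by decide +kernel

theorem r2 : PA.isW A TT [2, 2] A.one = true := by decide +kernel

theorem r3 : PA.isW A TT [4, 4] A.one = true := by decide +kernel

theorem r4 : PA.isW A TT [6, 6] A.one = true := by decide +kernel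

theorem r5 : PA.isW A TT [8, 8] A.one = true := by decide +kernel

theorem r6 : PA.isW A TT [0, 2, 0, 2, 0, 2] A.one = true := by decide +kernel

theorem r7 : PA.isW A TT [0, 8, 0, 8] A.one = true := by decide +kernel

theorem r8 : PA.isW A TT [2, 4, 2, 4, 2, 4] A.one = true := by decide +kernel

theorem r9 : PA.isW A TT [2, 6, 2, 6] A.one = true := by decide +kernel

theorem r10 : PA.isW A TT [2, 8, 2, 8] A.one = true := by decide +kernel

theorem r11 : PA.isW A TT [0, 7, 5, 7, 5, 7, 5, 7, 5] A.one = true := by decide +kernel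

theorem r12 : PA.isW A TT [4, 8, 4, 8] A.one = true := by decide +kernel

theorem r13 : PA.isW A TT [6, 8, 6, 8, 6, 8] A.one = true := by decide +kernel

theorem r15 : PA.isW A TT [2, 4, 6, 8, 2, 4, 6, 8, 2, 4, 6] m14 = true := by decide +kernel

theorem r17 : Nat.beq (PA.evw A TT [8, 2, 4, 6, 8, 2, 4, 6, 8, 2, 4] m14) m16 = true := by decide +kernel

theorem r18 : Nat.beq (PA.evw A TT [6, 8, 2, 4, 6, 8, 2, 4, 6, 8] m16) A.one = true := by decide +kernel

end Cfsg.Agent.Spor.ThV
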