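import Cfsg.Agent.Spor.ThV.D0

set_option autoImplicit false
set_option maxRecDepth 100000000
set_option Elab.async false

namespace Cfsg.Agent.Spor.ThV

theorem r19 : PA.isW A TT [10, 10, 10, 10, 10, 10, 10] A.one = true := by decide +kernel

theorem r20 : PA.isW A TT [11, 1, 10, 0] A.one = true := by decide +kernel

theorem r21 : PA.isW A TT [11, 3, 10, 2] A.one = true := by decide +kernel

theorem r22 : PA.isW A TT [11, 5, 10, 4] A.one = true := by decide +kernel

theorem r23 : PA.isW A TT [10, 6, 10, 6] A.one = true := by decide +kernel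

theorem r24 : PA.isW A TT [9, 11, 8, 11, 11, 9, 10, 10, 10] A.one = true := by decide +kernel

theorem r25 : PA.isW A TT [12, 12, 12] A.one = true := by decide +kernel

theorem r26 : PA.isW A TT [13, 1, 12, 0] A.one = true := by decide +kernel

theorem r27 : PA.isW A TT [13, 3, 12, 2] A.one = true := by decide +kernel

theorem r28 : PA.isW A TT [13, 5, 12, 4] A.one = true := by decide +kernel

theorem r29 : PA.isW A TT [13, 7, 12, 6] A.one = true := by decide +kernel

theorem r30 : PA.isW A TT [13, 9, 12, 8] A.one = true := by decide +kernel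

theorem r31 : PA.isW A TT [13, 10, 12, 11, 11] A.one = true := by decide +kernel

theorem r32 : PA.isW A TT [14, 14, 5, 1] A.one = true := by decide +kernel

theorem r33 : PA.isW A TT [15, 1, 14, 0] A.one = true := by decide +kernel

theorem r34 : PA.isW A TT [15, 5, 14, 4] A.one = true := by decide +kernel

theorem r35 : PA.isW A TT [15, 9, 14, 8] A.one = true := by decide +kernel

theorem r36 : PA.isW A TT [6, 8, 15, 6, 14, 6, 8, 15, 6, 14] A.one = true := by decide +kernel

theorem r37 : PA.isW A TT [15, 3, 5, 1, 2, 14, 3, 0, 4, 2, 9] A.one = true := by decide +kernel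

end Cfsg.Agent.Spor.ThV
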