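import Cfsg.Agent.Spor.ThV.D0

set_option autoImplicit false
set_option maxRecDepth 100000000
set_option Elab.async false

namespace Cfsg.Agent.Spor.ThV

theorem r39 : PA.isW A TT [7, 15, 6, 3, 5, 1, 2, 7, 14] m38 = true := by decide +kernel

theorem r41 : Nat.beq (PA.evw A TT [6, 3, 0, 4, 2, 5, 9, 7, 15] m38) m40 = true := by decide +kernel

theorem r42 : Nat.beq (PA.evw A TT [6, 3, 5, 1, 2, 9, 15] m40) A.one = true := by decide +kernel

theorem r43 : PA.isW A TT [15, 12, 14, 12] A.one = true := by decide +kernel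

theorem r45 : PA.isW A TT [9, 11, 11, 15, 10, 10] m44 = true := by decide +kernel

theorem r46 : Nat.beq (PA.evw A TT [8, 11, 11, 14, 10, 10] m44) A.one = true := by decide +kernel

theorem r47 : PA.isW A TT [0, 4, 11, 15, 11, 15, 11, 15] A.one = true := by decide +kernel

theorem r49 : PA.isW A TT [0, 4, 11, 15, 10, 14, 11, 15, 10] m48 = true := by decide +kernel

theorem r50 : Nat.beq (PA.evw A TT [14, 11, 15, 10, 14, 11, 15, 10, 14] m48) A.one = true := by decide +kernel

theorem r52 : PA.isW A TT [6, 11, 11, 14, 10, 10, 6, 11, 11, 14, 10] m51 = true := by decide +kernel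

theorem r54 : Nat.beq (PA.evw A TT [10, 6, 11, 11, 14, 10, 10, 6, 11, 11, 14] m51) m53 = true := by decide +kernel

theorem r56 : Nat.beq (PA.evw A TT [9, 7, 5, 6, 8, 10, 10, 10, 9, 7, 5] m53) m55 = true := by decide +kernel

end Cfsg.Agent.Spor.ThV
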