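import Cfsg.Agent.Spor.ThV.D0

set_option autoImplicit false
set_option maxRecDepth 100000000
set_option Elab.async false

namespace Cfsg.Agent.Spor.ThV

theorem r57 : Nat.beq (PA.evw A TT [6, 8, 11, 7, 5, 6, 5, 1] m55) A.one = true := by decide +kernel

end Cfsg.Agent.Spor.ThV
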