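import Cfsg.Agent.Spor.ThC
import Cfsg.Agent.Spor.PX13
import Cfsg.Agent.Spor.ThV.C0
import Cfsg.Agent.Spor.ThV.C1
import Cfsg.Agent.Spor.ThV.C2
import Cfsg.Agent.Spor.ThV.C3

set_option autoImplicit false
set_option maxRecDepth 100000000
set_option Elab.async false

namespace Cfsg.Agent.Spor.ThV

theorem hp : ((A.p : ℕ) : ZMod 3) = 0 := by decide
instance instCharP : CharP (ZMod 3) A.p := ZMod.charP 3

/-- the general linear group -/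
noncomputable abbrev Ω : MRep A (ZMod 3) (GL (Fin A.d) (ZMod 3)) := MRep.gl A (ZMod 3) sq hp
noncomputable abbrev F : ℕ → GL (Fin A.d) (ZMod 3) := Ω.gen TT
theorem presF : Pres 8 0 ThC.RL F :=
  ⟨fun _ h => absurd h (Nat.not_lt_zero _), (MRep.gl_gens TTok).all_one (show AllP (fun w => PA.isW A TT w A.one = true) [[0, 0], [2, 2], [4, 4], [6, 6], [8, 8], [0, 2, 0, 2, 0, 2], [0, 8, 0, 8], [2, 4, 2, 4, 2, 4], [2, 6, 2, 6], [2, 8, 2, 8], [0, 7, 5, 7, 5, 7, 5, 7, 5], [4, 8, 4, 8], [6, 8, 6, 8, 6, 8], [2, 4, 6, 8, 2, 4, 6, 8, 2, 4, 6, 8, 2, 4, 6, 8, 2, 4, 6, 8, 2, 4, 6, 8, 2, 4, 6, 8, 2, 4, 6, 8], [10, 10, 10, 10, 10, 10, 10], [11, 1, 10, 0], [11, 3, 10, 2], [11, 5, 10, 4], [10, 6, 10, 6], [9, 11, 8, 11, 11, 9, 10, 10, 10], [12, 12, 12], [13, 1, 12, 0], [13, 3, 12, 2], [13, 5, 12, 4], [13, 7, 12, 6], [13, 9, 12, 8],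 [13, 10, 12, 11, 11], [14, 14, 5, 1], [15, 1, 14, 0], [15, 5, 14, 4], [15, 9, 14, 8], [6, 8, 15, 6, 14, 6, 8, 15, 6, 14], [15, 3, 5, 1, 2, 14, 3, 0, 4, 2, 9], [7, 15, 6, 3, 5, 1, 2, 7, 14, 6, 3, 0, 4, 2, 5, 9, 7, 15, 6, 3, 5, 1, 2, 9, 15], [15, 12, 14, 12], [9, 11, 11, 15, 10, 10, 8, 11, 11, 14, 10, 10], [0, 4, 11, 15, 11, 15, 11, 15], [0, 4, 11, 15, 10, 14, 11, 15, 10, 14, 11, 15, 10, 14, 11, 15, 10, 14], [6, 11, 11, 14, 10, 10, 6, 11, 11, 14, 10, 10, 6, 11, 11, 14, 10, 10, 6, 11, 11, 14, 9, 7, 5, 6, 8, 10, 10, 10, 9, 7, 5, 6, 8, 11, 7, 5, 6, 5, 1]] from AllP.cons r1 (AllP.cons r2 (AllP.cons r3 (AllP.cons r4 (AllP.cons r5 (AllP.cons r6 (AllP.cons r7 (AllP.cons r8 (AllP.cons r9 (AllP.cons r10 (AllP.cons r11 (AllP.cons r12 (AllP.cons r13 (AllP.cons (PA.isW_app (v := [2, 4, 6, 8, 2, 4, 6, 8, 2, 4, 6, 8, 2, 4, 6,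 8, 2, 4, 6, 8, 2, 4, 6, 8, 2, 4, 6, 8, 2, 4, 6, 8]) (PA.isW_app (v := [2, 4, 6, 8, 2, 4, 6, 8, 2, 4, 6, 8, 2, 4, 6, 8, 2, 4, 6, 8, 2, 4]) r15 r17 rfl) r18 rfl) (AllP.cons r19 (AllP.cons r20 (AllP.cons r21 (AllP.cons r22 (AllP.cons r23 (AllP.cons r24 (AllP.cons r25 (AllP.cons r26 (AllP.cons r27 (AllP.cons r28 (AllP.cons r29 (AllP.cons r30 (AllP.cons r31 (AllP.cons r32 (AllP.cons r33 (AllP.cons r34 (AllP.cons r35 (AllP.cons r36 (AllP.cons r37 (AllP.cons (PA.isW_app (v := [7, 15, 6, 3, 5, 1, 2, 7, 14, 6, 3, 0, 4, 2, 5, 9, 7, 15, 6, 3, 5, 1, 2, 9, 15]) (PA.isW_app (v := [7, 15, 6, 3, 5, 1, 2, 7, 14, 6, 3, 0, 4, 2, 5, 9, 7, 15]) r39 r41 rfl) r42 rfl) (AllP.cons r43 (AllP.cons (PA.isW_app (v := [9, 11, 11, 15, 10, 10, 8, 11, 11, 14, 10, 10]) r45 r46 rfl) (AllP.cons r47 (AllP.cons (PA.isW_app (v := [0, 4, 11, 15, 10,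 14, 11, 15, 10, 14, 11, 15, 10, 14, 11, 15, 10, 14]) r49 r50 rfl) (AllP.cons (PA.isW_app (v := [6, 11, 11, 14, 10, 10, 6, 11, 11, 14, 10, 10, 6, 11, 11, 14, 10, 10, 6, 11, 11, 14, 9, 7, 5, 6, 8, 10, 10, 10, 9, 7, 5, 6, 8, 11, 7, 5, 6, 5, 1]) (PA.isW_app (v := [6, 11, 11, 14, 10, 10, 6, 11, 11, 14, 10, 10, 6, 11, 11, 14, 10, 10, 6, 11, 11, 14, 9, 7, 5, 6, 8, 10, 10, 10, 9, 7, 5]) (PA.isW_app (v := [6, 11, 11, 14, 10, 10, 6, 11, 11, 14, 10, 10, 6, 11, 11, 14, 10, 10, 6, 11, 11, 14]) r52 r54 rfl) r56 rfl) r57 rfl) (AllP.nil))))))))))))))))))))))))))))))))))))))))⟩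

/-- the matrix group -/
noncomputable abbrev H : Subgroup (GL (Fin A.d) (ZMod 3)) := gsub 8 F
noncomputable abbrev h : ℕ → H := lift H F
noncomputable def X : MRep A (ZMod 3) H := Ω.comp H.subtype H.subtype_injective
theorem gens : X.Gens TT (atm 8 h) := (MRep.gl_gens TTok).lift fun _ hj => mem_gsub F hj
theorem pres : Pres 8 0 ThC.RL h := presF.lift
theorem top : gsub 8 h = ⊤ := gsub_lift 8 F

end Cfsg.Agent.Spor.ThV
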